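import Cfsg.Agent.Lib.Helper30.G24.P3Data

set_option autoImplicit false
set_option maxRecDepth 1000000
set_option maxHeartbeats 0
set_option Elab.async false

namespace Cfsg.Agent.Lib.Helper30.G24.P3

open Cfsg.Agent.Lib.Helper89.CosetCert Cfsg.Agent.Lib.Helper89.SafePres

theorem chk14 : cert.checkSteps (cert.N - 1 + cert.j0 + steps0.length + steps1.length + steps2.length + steps3.length + steps4.length + steps5.length + steps6.length + steps7.length + steps8.length + steps9.length + steps10.length + steps11.length + steps12.length + steps13.length) steps14 = true := by decide +kernel

theorem chk15 : cert.checkSteps (cert.N - 1 + cert.j0 + steps0.length + steps1.length + steps2.length + steps3.length + steps4.length + steps5.length + steps6.length + steps7.length + steps8.length + steps9.length + steps10.length + steps11.length + steps12.length + steps13.length + steps14.length) steps15 = true := by decide +kernel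

theorem chk16 : cert.checkSteps (cert.N - 1 + cert.j0 + steps0.length + steps1.length + steps2.length + steps3.length + steps4.length + steps5.length + steps6.length + steps7.length + steps8.length + steps9.length + steps10.length + steps11.length + steps12.length + steps13.length + steps14.length + steps15.length) steps16 = true := by decide +kernel

theorem chk17 : cert.checkSteps (cert.N - 1 + cert.j0 + steps0.length + steps1.length + steps2.length + steps3.length + steps4.length + steps5.length + steps6.length + steps7.length + steps8.length + steps9.length + steps10.length + steps11.length + steps12.length + steps13.length + steps14.length + steps15.length + steps16.length) steps17 = true := by decide +kernel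

theorem chk18 : cert.checkSteps (cert.N - 1 + cert.j0 + steps0.length + steps1.length + steps2.length + steps3.length + steps4.length + steps5.length + steps6.length + steps7.length + steps8.length + steps9.length + steps10.length + steps11.length + steps12.length + steps13.length + steps14.length + steps15.length + steps16.length + steps17.length) steps18 = true := by decide +kernel

theorem chk19 : cert.checkSteps (cert.N - 1 + cert.j0 + steps0.length + steps1.length + steps2.length + steps3.length + steps4.length + steps5.length + steps6.length + steps7.length + steps8.length + steps9.length + steps10.length + steps11.length + steps12.length + steps13.length + steps14.length + steps15.length + steps16.length + steps17.length + steps18.length) steps19 = true := by decide +kernel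

theorem chk20 : cert.checkSteps (cert.N - 1 + cert.j0 + steps0.length + steps1.length + steps2.length + steps3.length + steps4.length + steps5.length + steps6.length + steps7.length + steps8.length + steps9.length + steps10.length + steps11.length + steps12.length + steps13.length + steps14.length + steps15.length + steps16.length + steps17.length + steps18.length + steps19.length) steps20 = true := by decide +kernel

end Cfsg.Agent.Lib.Helper30.G24.P3
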