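import Cfsg.Agent.Lib.Helper30.G24.P3Data

set_option autoImplicit false
set_option maxRecDepth 1000000
set_option maxHeartbeats 0
set_option Elab.async false

namespace Cfsg.Agent.Lib.Helper30.G24.P3

open Cfsg.Agent.Lib.Helper89.CosetCert Cfsg.Agent.Lib.Helper89.SafePres

theorem chk21 : cert.checkSteps (cert.N - 1 + cert.j0 + steps0.length + steps1.length + steps2.length + steps3.length + steps4.length + steps5.length + steps6.length + steps7.length + steps8.length + steps9.length + steps10.length + steps11.length + steps12.length + steps13.length + steps14.length + steps15.length + steps16.length + steps17.length + steps18.length + steps19.length + steps20.length) steps21 = true := by decide +kernel

theorem chk22 : cert.checkSteps (cert.N - 1 + cert.j0 + steps0.length + steps1.length + steps2.length + steps3.length + steps4.length + steps5.length + steps6.length + steps7.length + steps8.length + steps9.length + steps10.length + steps11.length + steps12.length + steps13.length + steps14.length + steps15.length + steps16.length + steps17.length + steps18.length + steps19.length + steps20.length + steps21.length) steps22 = true := by decide +kernel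

theorem chk23 : cert.checkSteps (cert.N - 1 + cert.j0 + steps0.length + steps1.length + steps2.length + steps3.length + steps4.length + steps5.length + steps6.length + steps7.length + steps8.length + steps9.length + steps10.length + steps11.length + steps12.length + steps13.length + steps14.length + steps15.length + steps16.length + steps17.length + steps18.length + steps19.length + steps20.length + steps21.length + steps22.length) steps23 = true := by decide +kernel

theorem chk24 : cert.checkSteps (cert.N - 1 + cert.j0 + steps0.length + steps1.length + steps2.length + steps3.length + steps4.length + steps5.length + steps6.length + steps7.length + steps8.length + steps9.length + steps10.length + steps11.length + steps12.length + steps13.length + steps14.length + steps15.length + steps16.length + steps17.length + steps18.length + steps19.length + steps20.length + steps21.length + steps22.length + steps23.length) steps24 = true := by decide +kernel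

end Cfsg.Agent.Lib.Helper30.G24.P3
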