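import Cfsg.Agent.Lib.Helper30.G24.P3Chk0
import Cfsg.Agent.Lib.Helper30.G24.P3Chk1
import Cfsg.Agent.Lib.Helper30.G24.P3Chk2
import Cfsg.Agent.Lib.Helper30.G24.P3Chk3
import Cfsg.Agent.Lib.Helper30.G24.P3Rels

set_option autoImplicit false
set_option maxRecDepth 1000000
set_option maxHeartbeats 0
set_option Elab.async false

namespace Cfsg.Agent.Lib.Helper30.G24.P3

open Cfsg.Agent.Lib.Helper89.CosetCert Cfsg.Agent.Lib.Helper89.SafePres

theorem defs_ok : cert.defsOK = true := by decide +kernel

theorem subs_ok : cert.subsOK = true := by decide +kernel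

theorem fin_ok : cert.finOK = true := by decide +kernel

theorem steps_ok : cert.checkSteps (cert.N - 1 + cert.j0) cert.steps = true := by
  show cert.checkSteps (cert.N - 1 + cert.j0) ([steps0, steps1, steps2, steps3, steps4, steps5, steps6, steps7, steps8, steps9, steps10, steps11, steps12, steps13, steps14, steps15, steps16, steps17, steps18, steps19, steps20, steps21, steps22, steps23, steps24].flatten) = true
  rw [Cert.checkSteps_flatten]
  rw [Cert.checkChunks, chk0, Cert.checkChunks, chk1, Cert.checkChunks, chk2, Cert.checkChunks, chk3, Cert.checkChunks, chk4, Cert.checkChunks, chk5, Cert.checkChunks, chk6, Cert.checkChunks, chk7, Cert.checkChunks, chk8, Cert.checkChunks, chk9, Cert.checkChunks, chk10, Cert.checkChunks, chk11, Cert.checkChunks, chk12, Cert.checkChunks, chk13, Cert.checkChunks, chk14, Cert.checkChunks, chk15, Cert.checkChunks, chk16, Cert.checkChunks, chk17, Cert.checkChunks, chk18, Cert.checkChunks, chk19, Cert.checkChunks, chk20, Cert.checkChunks, chk21, Cert.checkChunks, chk22, Cert.checkChunks, chk23, Cert.checkChunks, chk24, Cert.checkChunks]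
  rfl

theorem cert_ok : cert.check = true := by
  have h1 : decide (0 < cert.N) = true := by decide +kernel
  unfold Cert.check
  rw [h1, defs_ok, subs_ok, steps_ok, fin_ok]
  rfl

end Cfsg.Agent.Lib.Helper30.G24.P3
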